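import Groth.Agent.PicF.K885.Cyc
import Groth.Agent.Picfga.HilbZero
import Groth.Prelude.Def_PicGrp
import Groth.Prelude.Def_Pi1
import Groth.Prelude.Def_FEt

/-!
# Torsion of the Picard group of a scheme all of whose finite étale covers split

`nonempty_iso_of_section`: if the cyclic cover attached to `L^{⊗ d} ≅ O` has a section then `L ≅ O`;
`eq_one_of_split`: if all finite étale covers of `X` split, then `Pic X` has no torsion of order invertible on `X`.
-/

set_option autoImplicit false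
universe u

open CategoryTheory CategoryTheory.Limits AlgebraicGeometry Opposite TopologicalSpace

namespace K64.SplitTors

open Groth.Agent.Fdesc Groth.Agent.Fdesc.LocGen Groth.Agent.Picfga.LineFam Groth.Agent.Picfga K885.Kummer K885.Cyc

variable {X : Scheme.{u}} {L : X.Modules}

/-- A family `L → O_G` over `g` and a section of `g` trivialise `L`. -/
theorem nonempty_iso_of_section (hL : PicF.IsInvertible L) {G : Scheme.{u}} (g : G ⟶ X)
    (F : Fam g L (Coh.structureModule G)) (σ : X ⟶ G) (hσ : σ ≫ g = 𝟙 X) :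
    Nonempty (L ≅ Coh.structureModule X) := by
  obtain ⟨ψ, -⟩ := Fam.exists_ofIso hL ((F.comp (Fam.can σ)).cast hσ)
  exact ⟨((Scheme.Modules.pullbackId X).app L).symm ≪≫ ψ⟩

/-- If all finite étale covers of `X` split, then `L^{⊗ d} ≅ O`, `d` invertible on `X`, implies `L ≅ O`. -/
theorem nonempty_iso_of_split [Nonempty X] (hX : ∀ Y : FEt.Cat X, Pi1.IsSplit Y) {d : ℕ} (hd : 0 < d)
    (hu : IsUnit ((d : ℕ) : Γ(X, ⊤))) (hL : PicF.IsInvertible L)
    (h : Nonempty (CohB1.tensorPow L d ≅ Coh.structureModule X)) : Nonempty (L ≅ Coh.structureModule X) := by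
  obtain ⟨τ⟩ := h
  obtain ⟨G, g, F, -, hg, het, -⟩ := exists_cyc τ hL hd
  have h1 : IsFinite g := hg.1.1
  have h2 : Etale g := het hu
  let Y : FEt.Cat X := MorphismProperty.Over.mk ⊤ g ⟨h1, h2⟩
  obtain ⟨ι, _, e, he⟩ := hX Y
  have hs : Surjective g := HilbZero.surjective_of_isFinLocFreeOfDeg g hd hg
  have hι : Nonempty ι := by
    obtain ⟨x⟩ := ‹Nonempty X›
    obtain ⟨y, -⟩ := g.surjective x
    exact ⟨((sigmaMk (fun _ : ι => X)).symm ((e.hom : G ⟶ _) y)).1⟩
  obtain ⟨i⟩ := hι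
  exact nonempty_iso_of_section hL g F (Sigma.ι (fun _ : ι => X) i ≫ (e.inv : _ ⟶ G)) ((Category.assoc _ _ _).trans (he i))

/-- If all finite étale covers of `X` split, then `Pic X` has no torsion of order invertible on `X`. -/
theorem eq_one_of_split [Nonempty X] [PicGrp.Law X] (hX : ∀ Y : FEt.Cat X, Pi1.IsSplit Y) {d : ℕ} (hd : 0 < d)
    (hu : IsUnit ((d : ℕ) : Γ(X, ⊤))) (c : PicLoc.PicSet X) (hc : c ^ d = 1) : c = 1 := by
  obtain ⟨L, hL, rfl⟩ := PicGrp.exists_eq_cls c
  rw [PicGrp.cls_eq_one_iff]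
  refine nonempty_iso_of_split hX hd hu hL ?_
  have h1 := congrArg Subtype.val hc
  rw [PicGrp.cls_pow_val, PicGrp.one_val] at h1
  exact (PicGrp.cl_eq_cl_iff _ _).1 h1

end K64.SplitTors
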